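import Mathlib

/-!
# Modules with divided powers (project UNI, helper420)

Elementary form of the modules of a hyperalgebra in characteristic `p`: a vector space with operators `E i a`, `F i a`
(the divided powers of the simple root vectors) and the projections `P μ` onto the weight spaces. Weights are given by
their labels `μ i = ⟨μ, α_i∨⟩`; the simple root `α_j` has the labels `A i j`.

Plan of the project (all modules finite-dimensional over a field `k` of characteristic `p`, odd):

1. `Sub`, `Quot`, `Tensor`, `Twist`, `Dual` (`E ↔ Fᵀ`), restriction to a subset of the simple roots;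
2. highest weight theory (irreducible modules: highest weight vector, unique up to scalars, generates; uniqueness);
3. rank one: weights of the irreducible modules (`d - 2 i` with `C(d, i) ≠ 0` in `k`); strings; Weyl group invariance;
4. restricted highest weight: the vectors killed by all `E i 1` are the multiples of the highest weight vector (Curtis);
   the module is irreducible under the group generated by `X i 1`, `Y i 1` (Steinberg);
5. `L(λ) ⊗ L(λ')^tw` is irreducible for `λ` restricted (Steinberg's tensor product theorem);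
6. type `B_m`: natural module, spin module, existence of all `L(λ)`;
7. every irreducible `k[Ω_{2m+1}(p)]`-module comes from a restricted `L(λ)`;
8. type `B_m`, `p = 3, 5`: zero is a weight of the restricted modules `L(λ)`, `λ_m` even;
9. a prime-order element `y` of `Ω_{2m+1}(p)` of class `2m` has a nonzero fixed vector in every nontrivial module over `F_p`.
-/

set_option autoImplicit false

namespace Cfsg.Agent.Uni

/-- weights, given by their labels -/
abbrev Wt (n : ℕ) := Fin n → ℤ

/-- the simple root `α_i` for the Cartan matrix `A` (`A j i = ⟨α_i, α_j∨⟩`) -/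
def al {n : ℕ} (A : Fin n → Fin n → ℤ) (i : Fin n) : Wt n := fun j => A j i

/-- A module with divided powers of type `A`. -/
structure HMod {n : ℕ} (A : Fin n → Fin n → ℤ) (k V : Type*) [Field k] [AddCommGroup V] [Module k V] where
  E : Fin n → ℕ → Module.End k V
  F : Fin n → ℕ → Module.End k V
  P : Wt n → Module.End k V
  supp : Finset (Wt n)
  P_supp : ∀ μ, μ ∉ supp → P μ = 0
  P_sum : ∑ μ ∈ supp, P μ = 1
  P_idem : ∀ μ, P μ * P μ = P μ
  P_orth : ∀ μ ν, μ ≠ ν → P μ * P ν = 0
  E_zero : ∀ i, E i 0 = 1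
  F_zero : ∀ i, F i 0 = 1
  E_P : ∀ i a μ, E i a * P μ = P (μ + a • al A i) * E i a
  F_P : ∀ i a μ, F i a * P μ = P (μ - a • al A i) * F i a
  E_mul : ∀ i a b, E i a * E i b = ((a + b).choose a : k) • E i (a + b)
  F_mul : ∀ i a b, F i a * F i b = ((a + b).choose a : k) • F i (a + b)
  EF_comm : ∀ i j, i ≠ j → ∀ a b, E i a * F j b = F j b * E i a
  EF : ∀ i a b μ, E i a * F i b * P μ =
    ∑ c ∈ Finset.range (min a b + 1), ((Ring.choose (μ i + a - b) c : ℤ) : k) • (F i (b - c) * E i (a - c) * P μ)
  serreE : ∀ i j, i ≠ j → ∀ c, 3 ≤ c →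
    ∑ a ∈ Finset.range (c + 1), ((-1 : k) ^ a) • (E j a * E i 1 * E j (c - a)) = 0
  serreF : ∀ i j, i ≠ j → ∀ c, 3 ≤ c →
    ∑ a ∈ Finset.range (c + 1), ((-1 : k) ^ a) • (F j a * F i 1 * F j (c - a)) = 0

namespace HMod

variable {n : ℕ} {A : Fin n → Fin n → ℤ} {k V : Type*} [Field k] [AddCommGroup V] [Module k V] (M : HMod A k V)

/-- stable subspaces (graded submodules) -/
structure Stable (N : Submodule k V) : Prop where
  E : ∀ i a, ∀ v ∈ N, M.E i a v ∈ N
  F : ∀ i a, ∀ v ∈ N, M.F i a v ∈ N
  P : ∀ μ, ∀ v ∈ N, M.P μ v ∈ N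

/-- irreducible modules -/
structure Irr : Prop where
  nontriv : Nontrivial V
  irr : ∀ N : Submodule k V, M.Stable N → N = ⊥ ∨ N = ⊤

/-- `μ` is a weight -/
def IsWt (μ : Wt n) : Prop := M.P μ ≠ 0

/-- highest weight vectors -/
structure HW (l : Wt n) (v : V) : Prop where
  ne : v ≠ 0
  wt : M.P l v = v
  kill : ∀ i a, 1 ≤ a → M.E i a v = 0

/-- the group elements `x_i(s)`: `∑ s ^ a E i a`, the sum over `a < D` for large `D` -/
noncomputable def X (D : ℕ) (i : Fin n) (s : k) : Module.End k V := ∑ a ∈ Finset.range D, s ^ a • M.E i a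

/-- the group elements `x_{-i}(s)` -/
noncomputable def Y (D : ℕ) (i : Fin n) (s : k) : Module.End k V := ∑ a ∈ Finset.range D, s ^ a • M.F i a

theorem P_apply_of_mem_supp {v : V} : ∑ μ ∈ M.supp, M.P μ v = v := by
  have h := congrArg (fun f : Module.End k V => f v) M.P_sum
  simpa [LinearMap.sum_apply] using h

theorem mem_supp_of_isWt {μ : Wt n} (h : M.IsWt μ) : μ ∈ M.supp := by
  by_contra hn
  exact h (M.P_supp μ hn)

theorem P_P (μ ν : Wt n) (v : V) : M.P μ (M.P ν v) = if μ = ν then M.P μ v else 0 := by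
  split_ifs with h
  · subst h
    exact congrArg (fun f : Module.End k V => f v) (M.P_idem μ)
  · exact congrArg (fun f : Module.End k V => f v) (M.P_orth μ ν h)

theorem E_P_apply (i : Fin n) (a : ℕ) (μ : Wt n) (v : V) :
    M.E i a (M.P μ v) = M.P (μ + a • al A i) (M.E i a v) :=
  congrArg (fun f : Module.End k V => f v) (M.E_P i a μ)

theorem F_P_apply (i : Fin n) (a : ℕ) (μ : Wt n) (v : V) :
    M.F i a (M.P μ v) = M.P (μ - a • al A i) (M.F i a v) :=
  congrArg (fun f : Module.End k V => f v) (M.F_P i a μ)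

theorem E_E_apply (i : Fin n) (a b : ℕ) (v : V) : M.E i a (M.E i b v) = ((a + b).choose a : k) • M.E i (a + b) v :=
  congrArg (fun f : Module.End k V => f v) (M.E_mul i a b)

theorem F_F_apply (i : Fin n) (a b : ℕ) (v : V) : M.F i a (M.F i b v) = ((a + b).choose a : k) • M.F i (a + b) v :=
  congrArg (fun f : Module.End k V => f v) (M.F_mul i a b)

theorem EF_comm_apply {i j : Fin n} (h : i ≠ j) (a b : ℕ) (v : V) : M.E i a (M.F j b v) = M.F j b (M.E i a v) :=
  congrArg (fun f : Module.End k V => f v) (M.EF_comm i j h a b)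

theorem EF_apply (i : Fin n) (a b : ℕ) {μ : Wt n} {v : V} (hv : M.P μ v = v) : M.E i a (M.F i b v) =
    ∑ c ∈ Finset.range (min a b + 1), ((Ring.choose (μ i + a - b) c : ℤ) : k) • M.F i (b - c) (M.E i (a - c) v) := by
  have h := congrArg (fun f : Module.End k V => f v) (M.EF i a b μ)
  simpa [LinearMap.sum_apply, hv] using h

/-- on a highest weight vector (or any vector killed by `E i a`, `1 ≤ a`) -/
theorem EF_kill {i : Fin n} {μ : Wt n} {v : V} (hv : M.P μ v = v) (hk : ∀ a, 1 ≤ a → M.E i a v = 0) (a b : ℕ)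
    (hab : a ≤ b) : M.E i a (M.F i b v) = ((Ring.choose (μ i + a - b) a : ℤ) : k) • M.F i (b - a) v := by
  rw [M.EF_apply i a b hv, Finset.sum_eq_single a]
  · rw [Nat.sub_self, M.E_zero]
    rfl
  · intro c hc hca
    rw [Finset.mem_range] at hc
    rw [hk (a - c) (by omega), map_zero, smul_zero]
  · intro h
    exact absurd (Finset.mem_range.2 (by omega)) h

theorem EF_kill' {i : Fin n} {μ : Wt n} {v : V} (hv : M.P μ v = v) (hk : ∀ a, 1 ≤ a → M.E i a v = 0) (a b : ℕ)
    (hab : b < a) : M.E i a (M.F i b v) = 0 := by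
  rw [M.EF_apply i a b hv]
  refine Finset.sum_eq_zero fun c hc => ?_
  rw [Finset.mem_range] at hc
  rw [hk (a - c) (by omega), map_zero, smul_zero]

theorem P_E_of_wt {i : Fin n} {a : ℕ} {μ : Wt n} {v : V} (hv : M.P μ v = v) :
    M.P (μ + a • al A i) (M.E i a v) = M.E i a v := by rw [← M.E_P_apply, hv]

theorem P_F_of_wt {i : Fin n} {a : ℕ} {μ : Wt n} {v : V} (hv : M.P μ v = v) :
    M.P (μ - a • al A i) (M.F i a v) = M.F i a v := by rw [← M.F_P_apply, hv]

end HMod

end Cfsg.Agent.Uni
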